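import Cfsg.Agent.Lib.GLOrders.SympElems
import Cfsg.Agent.Lib.OrthClasses.Types
import Cfsg.Agent.Lib.Spinor.Tools
import Cfsg.Agent.Lib.Forms.OddInvol

/-!
Pairs of commuting isometries as element orders of `PSp_{2n}(q)` and `PΩ_{2n+1}(q)`.
-/

set_option autoImplicit false
set_option linter.unusedSectionVars false

namespace Cfsg.Agent.PrimeGraphBC

open Module FormsLib

section General

variable {F : Type*} [Field F] {V W : Type*} [AddCommGroup V] [Module F V] [AddCommGroup W] [Module F W]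

/-- Preservation of a form by an endomorphism. -/
def Pres (B : LinearMap.BilinForm F V) (S : Module.End F V) : Prop := ∀ u v, B (S u) (S v) = B u v

theorem Pres.one {B : LinearMap.BilinForm F V} : Pres B 1 := fun _ _ => rfl

theorem Pres.mul {B : LinearMap.BilinForm F V} {S T : Module.End F V} (hS : Pres B S) (hT : Pres B T) :
    Pres B (S * T) := fun u v => (hS (T u) (T v)).trans (hT u v)

theorem Pres.pow {B : LinearMap.BilinForm F V} {S : Module.End F V} (hS : Pres B S) (j : ℕ) :
    Pres B (S ^ j) := GLOrders.preserves_pow hS j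

theorem Pres.neg {B : LinearMap.BilinForm F V} {S : Module.End F V} (hS : Pres B S) : Pres B (-S) :=
  fun u v => by simp [hS u v]

theorem Pres.neg_one {B : LinearMap.BilinForm F V} : Pres B (-1) := Pres.one.neg

/-- A non-degenerate `e`-symmetric form. -/
structure Form (e : F) (B : LinearMap.BilinForm F V) : Prop where
  flip : ∀ u v, B v u = e * B u v
  sep : ∀ u, (∀ v, B u v = 0) → u = 0

theorem Form.nondeg {e : F} {B : LinearMap.BilinForm F V} (h : Form e B) : LinearMap.Nondegenerate B :=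
  ⟨h.sep, fun v hv => h.sep v fun u => by rw [h.flip u v, hv u, mul_zero]⟩

theorem Form.isAlt {B : LinearMap.BilinForm F V} (h : Form (-1) B) (h2 : (2 : F) ≠ 0) :
    LinearMap.IsAlt B := fun v =>
  (mul_eq_zero.1 (by linear_combination h.flip v v : (2 : F) * B v v = 0)).resolve_left h2

theorem Form.even [Fintype F] {B : LinearMap.BilinForm F V} [FiniteDimensional F V] (h : Form (-1) B) (h2 : (2 : F) ≠ 0) :
    Even (finrank F V) := by
  have := GLOrders.even_finrank_of_nonDegOn (h.isAlt h2) (GLOrders.nonDegOn_top h.nondeg)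
  rwa [finrank_top] at this

/-- The orthogonal sum. -/
noncomputable def pr (B : LinearMap.BilinForm F V) (C : LinearMap.BilinForm F W) :
    LinearMap.BilinForm F (V × W) := FormTorus.prodB (RingHom.id F) B C

theorem pr_apply (B : LinearMap.BilinForm F V) (C : LinearMap.BilinForm F W) (a b : V × W) :
    pr B C a b = B a.1 b.1 + C a.2 b.2 := FormTorus.prodB_apply _ _ _ _ _

theorem Form.prod {e : F} {B : LinearMap.BilinForm F V} {C : LinearMap.BilinForm F W} (hB : Form e B)
    (hC : Form e C) : Form e (pr B C) :=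
  ⟨fun u v => by rw [pr_apply, pr_apply, hB.flip, hC.flip]; ring,
   fun u h => Prod.ext (hB.sep _ fun w => by simpa [pr_apply] using h (w, 0))
    (hC.sep _ fun w => by simpa [pr_apply] using h (0, w))⟩

theorem Pres.prod {B : LinearMap.BilinForm F V} {C : LinearMap.BilinForm F W} {S : Module.End F V}
    {T : Module.End F W} (hS : Pres B S) (hT : Pres C T) : Pres (pr B C) (S.prodMap T) := fun a b => by
  rw [pr_apply, pr_apply, LinearMap.prodMap_apply, LinearMap.prodMap_apply, hS, hT]

theorem prodMap_pow (S : Module.End F V) (T : Module.End F W) (j : ℕ) :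
    (S.prodMap T) ^ j = (S ^ j).prodMap (T ^ j) := by
  induction j with
  | zero => exact (LinearMap.prodMap_one).symm
  | succ j ih => rw [pow_succ, pow_succ, pow_succ, ih, LinearMap.prodMap_mul]

theorem commute_prodMap {S S' : Module.End F V} {T T' : Module.End F W} (h : Commute S S')
    (h' : Commute T T') : Commute (S.prodMap T) (S'.prodMap T') := by
  show _ * _ = _ * _
  rw [LinearMap.prodMap_mul, LinearMap.prodMap_mul, h.eq, h'.eq]

theorem prodMap_inj {S S' : Module.End F V} {T T' : Module.End F W} (h : S.prodMap T = S'.prodMap T') :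
    S = S' ∧ T = T' :=
  ⟨LinearMap.ext fun v => congrArg Prod.fst (LinearMap.congr_fun h (v, 0)),
   LinearMap.ext fun w => congrArg Prod.snd (LinearMap.congr_fun h (0, w))⟩

theorem prodMap_ne_one_left {S : Module.End F V} (T : Module.End F W) (h : S ≠ 1) : S.prodMap T ≠ 1 :=
  fun e => h (prodMap_inj (e.trans LinearMap.prodMap_one.symm)).1

theorem prodMap_ne_one_right (S : Module.End F V) {T : Module.End F W} (h : T ≠ 1) : S.prodMap T ≠ 1 :=
  fun e => h (prodMap_inj (e.trans LinearMap.prodMap_one.symm)).2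

/-- The standard symmetric form. -/
noncomputable def dotB (F : Type*) [Field F] (d : ℕ) : LinearMap.BilinForm F (Fin d → F) :=
  LinearMap.mk₂ F (fun u v => dotProduct u v) (fun _ _ _ => add_dotProduct _ _ _)
    (fun _ _ _ => smul_dotProduct _ _ _) (fun _ _ _ => dotProduct_add _ _ _)
    (fun _ _ _ => dotProduct_smul _ _ _)

theorem form_dotB (d : ℕ) : Form (1 : F) (dotB F d) :=
  ⟨fun u v => by simp [dotB, dotProduct_comm], fun u h => funext fun i => by
    classical
    simpa [dotB] using h (Pi.single i 1)⟩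

end General

variable {F : Type*} [Field F] [Fintype F]

/-- An isometry of the given order on some form of the given sign and dimension. -/
def HasElem (F : Type*) [Field F] (e : F) (d r : ℕ) : Prop :=
  ∃ (B : LinearMap.BilinForm F (Fin d → F)) (S : Module.End F (Fin d → F)),
    Form e B ∧ Pres B S ∧ S ^ r = 1 ∧ S ≠ 1

/-- A commuting pair of isometries. -/
def HasPair (F : Type*) [Field F] (e : F) (d r s : ℕ) : Prop :=
  ∃ (B : LinearMap.BilinForm F (Fin d → F)) (S T : Module.End F (Fin d → F)),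
    Form e B ∧ Pres B S ∧ Pres B T ∧ Commute S T ∧ S ^ r = 1 ∧ T ^ s = 1 ∧ S ≠ 1 ∧ T ≠ 1

/-- Some form of the given sign and dimension. -/
def HasForm (F : Type*) [Field F] (e : F) (d : ℕ) : Prop :=
  ∃ B : LinearMap.BilinForm F (Fin d → F), Form e B

section Transport

variable {V : Type*} [AddCommGroup V] [Module F V] [FiniteDimensional F V] {e : F}

theorem exists_coord {d : ℕ} (hd : finrank F V = d) {B : LinearMap.BilinForm F V} (hB : Form e B) :
    ∃ (C : LinearMap.BilinForm F (Fin d → F)) (φ : Module.End F V →* Module.End F (Fin d → F)),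
      Form e C ∧ Function.Injective φ ∧ ∀ S, Pres B S → Pres C (φ S) := by
  let L : V ≃ₗ[F] (Fin d → F) := (Module.finBasisOfFinrankEq F V hd).equivFun
  let C : LinearMap.BilinForm F (Fin d → F) := B.compl₁₂ L.symm.toLinearMap L.symm.toLinearMap
  refine ⟨C, { toFun := fun S => L.toLinearMap ∘ₗ S ∘ₗ L.symm.toLinearMap
               map_one' := LinearMap.ext fun v => L.apply_symm_apply v
               map_mul' := fun S T => LinearMap.ext fun v => by simp }, ⟨fun u v => hB.flip _ _, fun u h => ?_⟩,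
    fun S T h => ?_, fun S hS u v => ?_⟩
  · exact L.symm.injective ((hB.sep _ fun w => by simpa [C] using h (L w)).trans (map_zero _).symm)
  · refine LinearMap.ext fun v => L.injective ?_
    have := LinearMap.congr_fun h (L v)
    simpa using this
  · show B (L.symm (L (S (L.symm u)))) (L.symm (L (S (L.symm v)))) = B (L.symm u) (L.symm v)
    rw [L.symm_apply_apply, L.symm_apply_apply, hS]

theorem hasPair_of {d r s : ℕ} (hd : finrank F V = d) {B : LinearMap.BilinForm F V} (hB : Form e B)
    {S T : Module.End F V} (hS : Pres B S) (hT : Pres B T) (hc : Commute S T) (hSr : S ^ r = 1)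
    (hTs : T ^ s = 1) (hS1 : S ≠ 1) (hT1 : T ≠ 1) : HasPair F e d r s := by
  obtain ⟨C, φ, hC, hφ, hp⟩ := exists_coord hd hB
  exact ⟨C, φ S, φ T, hC, hp S hS, hp T hT, hc.map φ, by rw [← map_pow, hSr, map_one],
    by rw [← map_pow, hTs, map_one], fun h => hS1 (hφ (h.trans (map_one φ).symm)),
    fun h => hT1 (hφ (h.trans (map_one φ).symm))⟩

theorem hasElem_of {d r : ℕ} (hd : finrank F V = d) {B : LinearMap.BilinForm F V} (hB : Form e B)
    {S : Module.End F V} (hS : Pres B S) (hSr : S ^ r = 1) (hS1 : S ≠ 1) : HasElem F e d r := by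
  obtain ⟨C, φ, hC, hφ, hp⟩ := exists_coord hd hB
  exact ⟨C, φ S, hC, hp S hS, by rw [← map_pow, hSr, map_one],
    fun h => hS1 (hφ (h.trans (map_one φ).symm))⟩

end Transport

theorem pair_sum {e : F} {a b r s : ℕ} (ha : HasElem F e a r) (hb : HasElem F e b s) :
    HasPair F e (a + b) r s := by
  obtain ⟨B, S, hB, hS, hSr, hS1⟩ := ha
  obtain ⟨C, T, hC, hT, hTs, hT1⟩ := hb
  refine hasPair_of (V := (Fin a → F) × (Fin b → F)) (by simp) (hB.prod hC) (S := S.prodMap 1)
    (T := LinearMap.prodMap 1 T) (hS.prod Pres.one) (Pres.one.prod hT)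
    (commute_prodMap (Commute.one_right _) (Commute.one_left _)) ?_ ?_
    (prodMap_ne_one_left _ hS1) (prodMap_ne_one_right _ hT1)
  · rw [prodMap_pow, hSr, one_pow, LinearMap.prodMap_one]
  · rw [prodMap_pow, hTs, one_pow, LinearMap.prodMap_one]

theorem pair_pad {e : F} {a b r s : ℕ} (ha : HasPair F e a r s) (hb : HasForm F e b) :
    HasPair F e (a + b) r s := by
  obtain ⟨B, S, T, hB, hS, hT, hc, hSr, hTs, hS1, hT1⟩ := ha
  obtain ⟨C, hC⟩ := hb
  refine hasPair_of (V := (Fin a → F) × (Fin b → F)) (by simp) (hB.prod hC) (S := S.prodMap 1)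
    (T := T.prodMap 1) (hS.prod Pres.one) (hT.prod Pres.one)
    (commute_prodMap hc (Commute.one_right _)) ?_ ?_
    (prodMap_ne_one_left _ hS1) (prodMap_ne_one_left _ hT1)
  · rw [prodMap_pow, hSr, one_pow, LinearMap.prodMap_one]
  · rw [prodMap_pow, hTs, one_pow, LinearMap.prodMap_one]

theorem hasForm_one (d : ℕ) : HasForm F (1 : F) d := ⟨_, form_dotB d⟩

theorem form_spB (m : ℕ) : Form (-1 : F) (spB m F) :=
  ⟨fun u v => by rw [neg_one_mul, LinearMap.IsAlt.neg spB_alt], spB_nondeg.1⟩

theorem hasForm_neg_one {d : ℕ} (hd : Even d) : HasForm F (-1 : F) d := by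
  obtain ⟨m, rfl⟩ := hd
  obtain ⟨C, φ, hC, -⟩ := exists_coord (V := Fin m ⊕ Fin m → F) (d := m + m) (by simp) (form_spB (F := F) m)
  exact ⟨C, hC⟩

section Witness

variable {V : Type*} [AddCommGroup V] [Module F V] [FiniteDimensional F V]

/-- An element of the symplectic group as an element of `PSp`. -/
theorem psp_witness (h2 : (2 : F) ≠ 0) {n o : ℕ} {B : LinearMap.BilinForm F V} (hB : Form (-1) B)
    (hd : finrank F V = 2 * n) {g : Module.End F V} (hg : Pres B g)
    (ho : ∀ j, g ^ j = 1 ∨ g ^ j = -1 → o ∣ j) :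
    o ∈ Set.range (orderOf : Cfsg.PSp n F → ℕ) := by
  obtain ⟨g', hg', hgg⟩ := (isTraceForm_of_isAlt (hB.isAlt h2) hB.nondeg).exists_equiv g hg
  obtain ⟨x, hx⟩ := FormTorus.exists_psp (hB.isAlt h2) hB.nondeg hd g' hg'
  have e : (g' : V →ₗ[F] V) = g := LinearMap.ext hgg
  exact GLOrders.mem_range_orderOf_of_dvd x (ho _ (e ▸ (hx _).1 (pow_orderOf_eq_one x)))

/-- The quadratic form of a bilinear form. -/
noncomputable def quad (B : LinearMap.BilinForm F V) : QuadraticForm F V :=
  LinearMap.BilinMap.toQuadraticMap B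

theorem quad_nondeg (h2 : (2 : F) ≠ 0) {B : LinearMap.BilinForm F V} (hB : Form 1 B) :
    (QuadraticMap.polarBilin (quad B)).Nondegenerate := by
  have hp : ∀ u v, QuadraticMap.polarBilin (quad B) u v = 2 * B u v := fun u v => by
    rw [QuadraticMap.polarBilin_apply_apply, quad, LinearMap.BilinMap.polar_toQuadraticMap, hB.flip u v]
    ring
  exact ⟨fun u h => hB.sep u fun v => (mul_eq_zero.1 ((hp u v).symm.trans (h v))).resolve_left h2,
    fun v h => hB.sep v fun u => by
      rw [hB.flip u v, (mul_eq_zero.1 ((hp u v).symm.trans (h u))).resolve_left h2, mul_zero]⟩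

theorem exists_oGroup (h2 : (2 : F) ≠ 0) {B : LinearMap.BilinForm F V} (hB : Form 1 B)
    {S : Module.End F V} (hS : Pres B S) : ∃ g : oGroup (quad B), ∀ v, g.1 v = S v := by
  obtain ⟨g, hg, hgg⟩ := (isTraceForm_of_isSymm (B := B) ⟨fun u v => by simpa using (hB.flip v u)⟩
    hB.nondeg h2).exists_equiv S hS
  exact ⟨⟨g, fun v => hg v v⟩, hgg⟩

theorem coe_pow {Q : QuadraticForm F V} {g : oGroup Q} {S : Module.End F V} (h : ∀ v, g.1 v = S v)
    (j : ℕ) : ∀ v, (g ^ j).1 v = (S ^ j) v := by
  induction j with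
  | zero => intro v; rfl
  | succ j ih =>
    intro v
    rw [pow_succ', pow_succ', Module.End.mul_apply, ← ih, ← h]
    rfl

theorem eq_one_iff {Q : QuadraticForm F V} {g : oGroup Q} {S : Module.End F V} (h : ∀ v, g.1 v = S v) :
    g = 1 ↔ S = 1 := by
  constructor
  · rintro rfl
    exact LinearMap.ext fun v => (h v).symm
  · rintro rfl
    exact Subtype.ext (LinearEquiv.ext h)

theorem commute_of {Q : QuadraticForm F V} {g g' : oGroup Q} {S S' : Module.End F V}
    (h : ∀ v, g.1 v = S v) (h' : ∀ v, g'.1 v = S' v) (hc : Commute S S') : Commute g g' :=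
  Subtype.ext (LinearEquiv.ext fun v => by
    show g.1 (g'.1 v) = g'.1 (g.1 v)
    rw [h, h', h', h]
    exact LinearMap.congr_fun hc.eq v)

theorem sq_mem_commutator (h2 : (2 : F) ≠ 0) {Q : QuadraticForm F V}
    (hQ : (QuadraticMap.polarBilin Q).Nondegenerate) (g : oGroup Q) : g * g ∈ commutator (oGroup Q) := by
  have hexc : Fintype.card F ≠ 2 ∨ finrank F V ≠ 4 := Or.inl (Spinor.card_ne_two h2)
  have hgen := Spinor.reflGroup_eq_top hQ hexc
  rw [Spinor.mem_commutator_iff hQ hexc, Spinor.dick_mul hQ hgen, Spinor.spin_mul hQ hgen]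
  exact ⟨Int.units_mul_self _, Int.units_mul_self _⟩

theorem odd_mem_commutator (h2 : (2 : F) ≠ 0) {Q : QuadraticForm F V}
    (hQ : (QuadraticMap.polarBilin Q).Nondegenerate) {g : oGroup Q} {o : ℕ} (ho : Odd o) (hg : g ^ o = 1) :
    g ∈ commutator (oGroup Q) := by
  obtain ⟨j, rfl⟩ := ho
  have e : g = g ^ (j + 1) * g ^ (j + 1) := by
    rw [← pow_add, show j + 1 + (j + 1) = 2 * j + 1 + 1 by ring, pow_succ, hg, one_mul]
  rw [e]
  exact sq_mem_commutator h2 hQ _

theorem sim_ne (h2 : (2 : F) ≠ 0) {n : ℕ} (hd : finrank F V = 2 * n + 1) {Q : QuadraticForm F V}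
    (hQ : (QuadraticMap.polarBilin Q).Nondegenerate) :
    ∃ f : oGroup Q →* oGroup (qOdd n F), Function.Injective f := by
  obtain ⟨c, L, hc, hL⟩ := OrthClasses.exists_similar_odd h2 hd Q hQ
  refine ⟨{ toFun := fun g => ⟨L.symm.trans (g.1.trans L), fun v => ?_⟩
            map_one' := Subtype.ext (LinearEquiv.ext fun v => L.apply_symm_apply v)
            map_mul' := fun g g' => Subtype.ext (LinearEquiv.ext fun v => ?_) }, fun g g' h => ?_⟩
  · rw [coe_qOdd]
    show Cfsg.quadFormOdd n F (L (g.1 (L.symm v))) = _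
    rw [hL, g.2, ← hL, L.apply_symm_apply]
  · show L (g.1 (g'.1 (L.symm v))) = L (g.1 (L.symm (L (g'.1 (L.symm v)))))
    rw [L.symm_apply_apply]
  · refine Subtype.ext (LinearEquiv.ext fun v => L.injective ?_)
    have := congrArg (fun k : oGroup (qOdd n F) => k.1 (L v)) h
    simpa using this

/-- The projection of `Ω_{2n+1}` onto its central quotient is injective. -/
theorem proj_orderOf (h2 : (2 : F) ≠ 0) {n : ℕ} (hn : 3 ≤ n)
    (a : Cfsg.Omega F ⇑(qOdd n F)) :
    orderOf (QuotientGroup.mk a : Cfsg.Omega F ⇑(qOdd n F) ⧸ Subgroup.center (Cfsg.Omega F ⇑(qOdd n F))) =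
      orderOf (oEquiv (qOdd n F) a.1) := by
  rw [MulEquiv.orderOf_eq, Subgroup.orderOf_coe]
  refine orderOf_injective (QuotientGroup.mk' _) ((injective_iff_map_eq_one _).2 fun z hz => ?_) a
  rw [QuotientGroup.mk'_apply, QuotientGroup.eq_one_iff, Subgroup.mem_center_iff] at hz
  have h := center_commutator_oOdd hn h2 ((Spinor.mem_Omega_iff _ _).1 z.2) fun g hg => by
    obtain ⟨A, rfl⟩ := (oEquiv (qOdd n F)).surjective g
    rw [← map_mul, ← map_mul]
    exact congrArg (oEquiv _) (congrArg Subtype.val (hz ⟨A, (Spinor.mem_Omega_iff _ _).2 hg⟩))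
  exact Subtype.ext ((oEquiv (qOdd n F)).injective (h.trans (map_one _).symm))

/-- An element of the derived orthogonal group as an element of `POmega`. -/
theorem pomega_witness (h2 : (2 : F) ≠ 0) {n o : ℕ} (hn : 3 ≤ n) (hd : finrank F V = 2 * n + 1)
    {Q : QuadraticForm F V} (hQ : (QuadraticMap.polarBilin Q).Nondegenerate) {g : oGroup Q}
    (hg : g ∈ commutator (oGroup Q)) (ho : orderOf g = o) :
    o ∈ Set.range (orderOf : Cfsg.POmega F (Cfsg.quadFormOdd n F) → ℕ) := by
  obtain ⟨f, hf⟩ := sim_ne h2 hd hQ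
  have hfg : f g ∈ commutator (oGroup (qOdd n F)) := by
    have h := Subgroup.mem_map_of_mem f hg
    rw [commutator_def, Subgroup.map_commutator] at h
    rw [commutator_def]
    exact Subgroup.commutator_mono le_top le_top h
  rw [← coe_qOdd]
  obtain ⟨A, hA⟩ := (oEquiv (qOdd n F)).surjective (f g)
  refine ⟨QuotientGroup.mk ⟨A, (Spinor.mem_Omega_iff _ _).2 (hA ▸ hfg)⟩, ?_⟩
  refine (proj_orderOf h2 hn _).trans ?_
  rw [hA, orderOf_injective f hf, ho]

theorem pomega_split (h2 : (2 : F) ≠ 0) {n o : ℕ} (hn : 3 ≤ n)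
    (ho : o ∈ Set.range (orderOf : Cfsg.POmega F (Cfsg.quadFormOdd n F) → ℕ)) :
    ∃ g : oGroup (qOdd n F), g ∈ commutator (oGroup (qOdd n F)) ∧ orderOf g = o := by
  rw [← coe_qOdd] at ho
  obtain ⟨y, hy⟩ := ho
  obtain ⟨a, rfl⟩ := QuotientGroup.mk_surjective y
  exact ⟨oEquiv _ a.1, (Spinor.mem_Omega_iff _ _).1 a.2, (proj_orderOf h2 hn a).symm.trans hy⟩

end Witness

end Cfsg.Agent.PrimeGraphBC
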