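import Cfsg.Agent.Lib.PrimeGraphBC.Two
import Mathlib.GroupTheory.Perm.Cycle.Type

/-!
An element of order `2s` in `PΩ_{2n+1}(q)` gives one in `PSp_{2n}(q)`: counting vectors of given norm.
-/

set_option autoImplicit false
set_option linter.unusedSectionVars false
set_option linter.style.haveILetI false
set_option maxHeartbeats 800000

namespace Cfsg.Agent.PrimeGraphBC

open Module FormsLib
open scoped Classical

variable {F : Type*} [Field F] [Fintype F] {V : Type*} [AddCommGroup V] [Module F V] [FiniteDimensional F V]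

/-- An isometry of prime order permutes the moved vectors of a given norm semiregularly. -/
theorem card_fixed_modEq {Q : QuadraticForm F V} {g : oGroup Q} {s : ℕ} [Fact s.Prime] (hg : g ^ s = 1)
    {X : Submodule F V} (hfix : ∀ v, g.1 v = v ↔ v ∈ X) (c : F) :
    Nat.card {v : V // Q v = c} ≡ Nat.card {v : V // Q v = c ∧ v ∈ X} [MOD s] := by
  haveI : Finite V := Module.finite_of_finite F
  letI : Fintype V := Fintype.ofFinite V
  let f : Function.End {v : V // Q v = c} := fun v => ⟨g.1 v, by rw [g.2]; exact v.2⟩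
  have hpow : ∀ (j : ℕ) v, (((f ^ j) v : {v : V // Q v = c}) : V) = (g ^ j).1 v := by
    intro j
    induction j with
    | zero => intro v; rfl
    | succ j ih =>
      intro v
      rw [pow_succ', pow_succ']
      show g.1 (((f ^ j) v : {v : V // Q v = c}) : V) = g.1 ((g ^ j).1 v)
      rw [ih]
  have h := Equiv.Perm.card_fixedPoints_modEq (f := f) (p := s) (n := 1) (funext fun v => Subtype.ext (by
    rw [pow_one, hpow, hg]; rfl))
  rw [← Nat.card_eq_fintype_card, ← Nat.card_eq_fintype_card] at h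
  rw [show Nat.card (Function.fixedPoints f) = _ from Nat.card_congr ?_] at h
  · exact h
  refine (Equiv.subtypeEquivRight (q := fun v : {v : V // Q v = c} => (v : V) ∈ X) fun v => ?_).trans
    (Equiv.subtypeSubtypeEquivSubtypeInter (fun v : V => Q v = c) (fun v : V => v ∈ X))
  rw [Function.mem_fixedPoints_iff, Subtype.ext_iff]
  exact hfix v

/-- The parity of a square spinor norm. -/
theorem four_dvd_moved (h2 : (2 : F) ≠ 0) {Q : QuadraticForm F V} {g : oGroup Q} (hg : g ^ 2 = 1)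
    (hd : Spinor.dick g = 1) (hs : Spinor.spin g = 1) {X : Submodule F V} (hfix : ∀ v, g.1 v = v ↔ v ∈ X) :
    Nat.card {v : V // Q v = 1 ∧ v ∈ X} ≤ Nat.card {v : V // Q v = 1} ∧
      4 ∣ Nat.card {v : V // Q v = 1} - Nat.card {v : V // Q v = 1 ∧ v ∈ X} := by
  haveI : Finite V := Module.finite_of_finite F
  letI : Fintype V := Fintype.ofFinite V
  letI : Fintype {x : V // Q x = 1} := Fintype.ofFinite _
  have hsgn : Spinor.sphereSign Q g = 1 := by
    rw [Spinor.spin, if_neg h2, hd, mul_one] at hs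
    exact hs
  have hsgn' : Equiv.Perm.sign (Spinor.sphereHom Q g) = 1 := by
    rw [← hsgn]
    show _ = Equiv.Perm.sign (Spinor.sphereHom Q g)
    congr!
  set σ := Spinor.sphereHom Q g with hσ
  have hσ2 : σ ^ 2 = 1 := by rw [hσ, ← map_pow, hg, map_one]
  have hfx : Fintype.card (Function.fixedPoints σ) = Nat.card {v : V // Q v = 1 ∧ v ∈ X} := by
    rw [← Nat.card_eq_fintype_card]
    refine Nat.card_congr ((Equiv.subtypeEquivRight
      (q := fun v : {v : V // Q v = 1} => (v : V) ∈ X) fun v => ?_).trans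
      (Equiv.subtypeSubtypeEquivSubtypeInter (fun v : V => Q v = 1) (fun v : V => v ∈ X)))
    rw [Function.mem_fixedPoints_iff, Subtype.ext_iff, hσ, Spinor.sphereHom_apply]
    exact hfix v
  have hev : 2 ∣ Fintype.card {x : V // Q x = 1} - Fintype.card (Function.fixedPoints σ) := by
    have h := card_fixed_modEq (s := 2) hg hfix (1 : F)
    rw [← hfx, Nat.card_eq_fintype_card] at h
    exact (Nat.modEq_iff_dvd' (Fintype.card_subtype_le _)).1 h.symm
  have hle : Fintype.card (Function.fixedPoints σ) ≤ Fintype.card {x : V // Q x = 1} := Fintype.card_subtype_le _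
  rw [Equiv.Perm.sign_of_pow_two_eq_one hσ2, neg_one_pow_eq_one_iff_even (by decide)] at hsgn'
  obtain ⟨k, hk⟩ := hev
  rw [hk, Nat.mul_div_cancel_left k two_pos] at hsgn'
  obtain ⟨i, rfl⟩ := hsgn'
  rw [← hfx, Nat.card_eq_fintype_card]
  exact ⟨hle, ⟨i, by rw [hk]; ring⟩⟩

/-- Vectors of given norm on an anisotropic line. -/
theorem card_line (h2 : (2 : F) ≠ 0) {Q : QuadraticForm F V} {X : Submodule F V} (hX : finrank F X = 1)
    {x₀ : V} (hx₀ : x₀ ∈ X) (hQ₀ : Q x₀ ≠ 0) {c : F} (hc : c ≠ 0) :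
    Nat.card {v : V // Q v = c ∧ v ∈ X} = if IsSquare (c / Q x₀) then 2 else 0 := by
  have hx0 : x₀ ≠ 0 := fun h => hQ₀ (by rw [h, QuadraticMap.map_zero])
  have hspan : ∀ v ∈ X, ∃ z : F, z • x₀ = v := fun v hv => by
    obtain ⟨z, hz⟩ := (finrank_eq_one_iff_of_nonzero' (⟨x₀, hx₀⟩ : X)
      (fun h => hx0 (congrArg Subtype.val h))).1 hX ⟨v, hv⟩
    exact ⟨z, congrArg Subtype.val hz⟩
  have hval : ∀ z : F, Q (z • x₀) = c ↔ z * z = c / Q x₀ := fun z => by
    rw [QuadraticMap.map_smul, smul_eq_mul, eq_div_iff hQ₀]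
  split_ifs with hsq
  · obtain ⟨w, hw⟩ := hsq
    have hw0 : w ≠ 0 := fun h => by simp [h, hc, hQ₀] at hw
    rw [Nat.card_eq_two_iff]
    refine ⟨⟨w • x₀, (hval w).2 hw.symm, X.smul_mem _ hx₀⟩,
      ⟨(-w) • x₀, (hval _).2 (by rw [neg_mul_neg, hw]), X.smul_mem _ hx₀⟩, fun h => ?_, ?_⟩
    · have h' := congrArg Subtype.val h
      have := smul_left_injective F hx0 h'
      exact mul_ne_zero h2 hw0 (by linear_combination this)
    · refine Set.eq_univ_of_forall fun ⟨v, hv, hvX⟩ => ?_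
      obtain ⟨z, rfl⟩ := hspan v hvX
      have hz := (hval z).1 hv
      rw [hw] at hz
      rcases mul_self_eq_mul_self_iff.1 hz with h | h
      · exact Or.inl (Subtype.ext (congrArg (· • x₀) h))
      · exact Or.inr (Subtype.ext (congrArg (· • x₀) h))
  · rw [Nat.card_eq_zero]
    refine Or.inl ⟨fun ⟨v, hv, hvX⟩ => ?_⟩
    obtain ⟨z, rfl⟩ := hspan v hvX
    exact hsq ⟨z, ((hval z).1 hv).symm⟩

/-- The vectors of non-square norm of the standard odd-dimensional form. -/
theorem card_sphere_nonsquare {δ : F} (hδ : ¬ IsSquare δ) (n : ℕ) :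
    Nat.card {v // Cfsg.quadFormOdd n F v = δ} + Fintype.card F ^ n = Fintype.card F ^ (2 * n) := by
  let e : (Unit ⊕ (Fin n ⊕ Fin n) → F) ≃ F × (Fin n ⊕ Fin n → F) :=
    (Equiv.sumArrowEquivProdArrow _ _ _).trans ((Equiv.funUnique Unit F).prodCongr (Equiv.refl _))
  have hQ : ∀ x w, Cfsg.quadFormOdd n F (e.symm (x, w)) = x ^ 2 + Cfsg.quadFormPlus n F w := by
    intro x w
    simp [e, Cfsg.quadFormOdd, Cfsg.quadFormPlus]
  have h := FormCount.step e _ (fun x => x ^ 2) _ hQ _ _ _ δ (fun z => FormCount.card_plus n _)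
  have h1 : Nat.card {x : F // x ^ 2 = δ} = 0 :=
    Nat.card_eq_zero.2 (Or.inl ⟨fun x => hδ ⟨x.1, by rw [← pow_two]; exact x.2.symm⟩⟩)
  rw [h1] at h
  have hq : (0 : ℤ) < Fintype.card F := by exact_mod_cast Fintype.card_pos
  have hz : ((Nat.card {v // Cfsg.quadFormOdd n F v = δ} : ℕ) : ℤ) + (Fintype.card F : ℤ) ^ n =
      (Fintype.card F : ℤ) ^ (2 * n) := by
    refine mul_left_cancel₀ hq.ne' ?_
    rw [mul_add, h]; push_cast; ring
  exact_mod_cast hz

theorem psp_of_pomega_two {p : ℕ} [Fact p.Prime] [CharP F p] (h2 : (2 : F) ≠ 0) {n s : ℕ} (hn : 3 ≤ n)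
    (hs : s.Prime) (hso : Odd s) (hsF : (s : F) ≠ 0)
    (hx : 2 * s ∈ Set.range (orderOf : Cfsg.POmega F (Cfsg.quadFormOdd n F) → ℕ)) :
    2 * s ∈ Set.range (orderOf : Cfsg.PSp n F → ℕ) := by
  haveI := Fact.mk hs
  obtain ⟨g, hgc, hgo⟩ := pomega_split h2 hn hx
  have hQ := qOdd_nondeg (F := F) (m := n) h2
  have hexc : Fintype.card F ≠ 2 ∨ finrank F (Unit ⊕ (Fin n ⊕ Fin n) → F) ≠ 4 := Or.inl (Spinor.card_ne_two h2)
  set h := g ^ s with hh
  set gS := g ^ 2 with hgS
  have hh2 : h ^ 2 = 1 := by rw [hh, ← pow_mul, mul_comm, ← hgo, pow_orderOf_eq_one]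
  have hSs : gS ^ s = 1 := by rw [hgS, ← pow_mul, ← hgo, pow_orderOf_eq_one]
  have hh1 : h ≠ 1 := fun e => by
    have := Nat.le_of_dvd hs.pos (hgo ▸ orderOf_dvd_of_pow_eq_one e)
    have := hs.two_le
    omega
  have hS1' : gS ≠ 1 := fun e => by
    have := Nat.le_of_dvd two_pos (hgo ▸ orderOf_dvd_of_pow_eq_one e)
    have := hs.two_le
    omega
  let S : Module.End F (Unit ⊕ (Fin n ⊕ Fin n) → F) := gS.1.toLinearMap
  let H : Module.End F (Unit ⊕ (Fin n ⊕ Fin n) → F) := h.1.toLinearMap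
  have hSe : ∀ v, gS.1 v = S v := fun v => rfl
  have hHe : ∀ v, h.1 v = H v := fun v => rfl
  have hB := form_polar (F := F) h2 n
  have hpS : Pres (QuadraticMap.polarBilin (qOdd n F)) S := fun u v => polar_of_mem gS.2 u v
  have hpH : Pres (QuadraticMap.polarBilin (qOdd n F)) H := fun u v => polar_of_mem h.2 u v
  have hcS : Commute S H := LinearMap.ext fun v =>
    congrArg (fun k : oGroup (qOdd n F) => k.1 v) ((Commute.refl g).pow_pow 2 s).eq
  have hS : S ^ s = 1 := (eq_one_iff (coe_pow hSe s)).1 hSs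
  have hH2 : H ^ 2 = 1 := (eq_one_iff (coe_pow hHe 2)).1 hh2
  obtain ⟨W, X, B', hB', hBW, hBX, hd, hsup, hev, hfix, hfpf, hall⟩ :=
    twist h2 (Or.inl rfl) hB hso hsF hpS hS
  obtain ⟨hSW, -, hpSW, -, -⟩ := hall S (Commute.refl S) hpS
  obtain ⟨hHW, hHX, hpHW, -, -⟩ := hall H hcS hpH
  have hdim : finrank F (Unit ⊕ (Fin n ⊕ Fin n) → F) = 2 * n + 1 := by simp; omega
  rw [hdim] at hd
  have hmem : ∀ v, v ∈ W ⊔ X := fun v => hsup ▸ Submodule.mem_top
  have hSW1 : S.restrict hSW ≠ 1 := fun h1 => hS1' ((eq_one_iff hSe).2 (LinearMap.ext fun v => by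
    obtain ⟨a, ha, b, hb, rfl⟩ := Submodule.mem_sup.1 (hmem v)
    rw [map_add, hfix b hb, show S a = a from congrArg Subtype.val (LinearMap.congr_fun h1 ⟨a, ha⟩),
      Module.End.one_apply]))
  by_cases hX : 3 ≤ finrank F X
  · exact psp_two_of_elem h2 hs hso (hasElem_of rfl hB' hpSW (restrict_eq_one hSW hS) hSW1) (by omega)
  obtain ⟨i, hi⟩ := hev
  have hX1 : finrank F X = 1 := by omega
  by_cases ht : H.restrict hHW ≠ 1 ∧ H.restrict hHW ≠ -1
  · exact psp_two_witness h2 hs hso hB' (by omega) hpHW hpSW (restrict_commute hHW hSW hcS.symm)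
      (restrict_eq_one hHW hH2) ht.1 ht.2 (restrict_eq_one hSW hS) hSW1
  obtain ⟨hdk, hspin⟩ := (Spinor.mem_commutator_iff hQ hexc h).1 (pow_mem hgc s)
  have hrk : Even (Spinor.rk h.1) := (neg_one_pow_eq_one_iff_even (by decide)).1 hdk
  have htne : H.restrict hHW ≠ 1 := by
    intro e
    refine hh1 (Subtype.ext (Spinor.eq_one_of_rk_eq_zero ?_))
    have hle : Spinor.mov h.1 ≤ X := by
      intro x hx
      obtain ⟨y, rfl⟩ := Spinor.mem_mov.1 hx
      obtain ⟨a, ha, b, hb, rfl⟩ := Submodule.mem_sup.1 (hmem y)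
      rw [hHe, map_add, show H a = a from congrArg Subtype.val (LinearMap.congr_fun e ⟨a, ha⟩),
        add_sub_add_left_eq_sub]
      exact X.sub_mem (hHX b hb) hb
    have h1 : Spinor.rk h.1 ≤ 1 := hX1 ▸ Submodule.finrank_mono hle
    obtain ⟨j, hj⟩ := hrk
    omega
  have htm : H.restrict hHW = -1 := by
    by_contra e
    exact ht ⟨htne, e⟩
  -- the fixed space of `h` is the line
  have hfS : ∀ v, gS.1 v = v ↔ v ∈ X := by
    intro v
    refine ⟨fun hv => ?_, fun hv => hfix v hv⟩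
    obtain ⟨a, ha, b, hb, rfl⟩ := Submodule.mem_sup.1 (hmem v)
    rw [hSe, map_add, hfix b hb, add_left_inj] at hv
    rw [hfpf a ha hv, zero_add]
    exact hb
  have hfix_le : Spinor.fixS h.1 ≤ X := by
    intro v hv
    obtain ⟨a, ha, b, hb, rfl⟩ := Submodule.mem_sup.1 (hmem v)
    have hv' : H a + H b = a + b := by rw [← map_add]; exact Spinor.mem_fixS.1 hv
    have hHa : H a = -a := congrArg Subtype.val (LinearMap.congr_fun htm ⟨a, ha⟩)
    have h1 : (2 : F) • a = H b - b := by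
      rw [hHa] at hv'
      rw [two_smul]
      linear_combination (norm := abel) -hv'
    have haX : a ∈ X := by
      have := X.smul_mem (2 : F)⁻¹ (h1 ▸ X.sub_mem (hHX b hb) hb : (2 : F) • a ∈ X)
      rwa [smul_smul, inv_mul_cancel₀ h2, one_smul] at this
    rw [hfpf a ha (hfix a haX), zero_add]
    exact hb
  have hfixeq : Spinor.fixS h.1 = X := by
    refine Submodule.eq_of_le_of_finrank_le hfix_le ?_
    have := Spinor.rk_add h.1
    rw [hdim] at this
    obtain ⟨j, hj⟩ := hrk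
    omega
  have hfH : ∀ v, h.1 v = v ↔ v ∈ X := fun v => by rw [← hfixeq]; exact Spinor.mem_fixS.symm
  obtain ⟨x₀, hx₀⟩ : ∃ x₀ : X, x₀ ≠ 0 := by
    haveI : Nontrivial X := Module.nontrivial_of_finrank_pos (R := F) (by omega)
    exact exists_ne 0
  have hQ₀ : (qOdd n F) (x₀ : Unit ⊕ (Fin n ⊕ Fin n) → F) ≠ 0 := fun h0 => hx₀ <| hBX.sep x₀ fun v => by
    obtain ⟨z, rfl⟩ := (finrank_eq_one_iff_of_nonzero' x₀ hx₀).1 hX1 v
    show QuadraticMap.polarBilin (qOdd n F) _ (z • (x₀ : Unit ⊕ (Fin n ⊕ Fin n) → F)) = 0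
    rw [map_smul, QuadraticMap.polarBilin_apply_apply, show X.subtype x₀ = (x₀ : _) from rfl, polar_self', h0,
      mul_zero, smul_zero]
  -- counting
  have hS1c := card_fixed_modEq hSs hfS (1 : F)
  obtain ⟨hle, h4⟩ := four_dvd_moved h2 hh2 hdk hspin hfH
  have hN : Nat.card {v // (qOdd n F) v = 1} = Fintype.card F ^ (2 * n) + Fintype.card F ^ n := by
    rw [coe_qOdd, SpectrumBC.card_sphere h2 n]
  set N := Fintype.card F ^ n with hNdef
  have hqq : Fintype.card F ^ (2 * n) = N * N := by rw [hNdef, ← pow_add, two_mul]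
  have hqodd : Odd N := (Nat.odd_iff.2 (FiniteField.odd_card_of_char_ne_two (Spinor.ringChar_ne_two h2))).pow
  have hsN : Nat.Coprime s N := by
    refine ((hs.coprime_iff_not_dvd).2 fun hd => ?_)
    obtain ⟨f, hp', hqp⟩ := FiniteField.card F p
    have := (Nat.prime_dvd_prime_iff_eq hs hp').1 (hs.dvd_of_dvd_pow (hqp ▸ hs.dvd_of_dvd_pow hd))
    exact hsF (by rw [this, CharP.cast_eq_zero])
  have hN1 : 1 ≤ N := hqodd.pos
  suffices ho : 4 * s ∣ N + 1 ∨ 4 * s ∣ N - 1 by
    obtain ⟨hos, hoe⟩ := GLOrders.exists_sp_iso (F := F) p (e := n) (o := 4 * s) (by omega) (Or.inr ho)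
    refine psp_witness h2 (form_spB n) (by simp; omega) (g := FormTorus.en hos) hoe.1 fun j hj => ?_
    have h2j : FormTorus.en hos ^ (2 * j) = 1 := by
      rw [mul_comm 2 j, pow_mul, pow_two]
      rcases hj with h | h <;> rw [h]
      · exact one_mul _
      · exact LinearMap.ext fun v => neg_neg v
    have h := (hoe.2 _).1 h2j
    rw [show 4 * s = 2 * (2 * s) by ring] at h
    exact Nat.dvd_of_mul_dvd_mul_left two_pos h
  have hco : Nat.Coprime 4 s := by
    rw [show (4 : ℕ) = 2 ^ 2 from rfl]; exact (Nat.coprime_two_left.2 hso).pow_left 2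
  by_cases hsq : IsSquare (1 / (qOdd n F) (x₀ : Unit ⊕ (Fin n ⊕ Fin n) → F))
  · refine Or.inr (hco.mul_dvd_of_dvd_of_dvd ?_ ?_)
    · rw [card_line h2 hX1 x₀.2 hQ₀ one_ne_zero, if_pos hsq, hN, hqq,
        show N * N + N - 2 = (N + 2) * (N - 1) by
          obtain ⟨M, hM⟩ := Nat.exists_eq_add_of_le hN1
          rw [hM, show (1 + M) - 1 = M by omega]
          have e : (1 + M) * (1 + M) + (1 + M) = (1 + M + 2) * M + 2 := by ring
          omega] at h4
      refine (Nat.Coprime.dvd_of_dvd_mul_left ?_ h4)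
      rw [show (4 : ℕ) = 2 ^ 2 from rfl]
      exact (Nat.coprime_two_left.2 (hqodd.add_even even_two)).pow_left 2
    · obtain ⟨δ, hδ⟩ := FiniteField.exists_nonsquare (F := F) (Spinor.ringChar_ne_two h2)
      have hδ0 : δ ≠ 0 := fun e => hδ (e ▸ IsSquare.zero)
      have h := card_fixed_modEq hSs hfS δ
      rw [card_line h2 hX1 x₀.2 hQ₀ hδ0, if_neg (fun hc => hδ (by
        have := hc.mul (IsSquare.inv hsq)
        rwa [one_div, inv_inv, div_mul_cancel₀ _ hQ₀] at this)), coe_qOdd] at h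
      have hcnt := card_sphere_nonsquare hδ n
      rw [hqq] at hcnt
      refine hsN.dvd_of_dvd_mul_left ?_
      rw [Nat.mul_sub, mul_one, ← hcnt, Nat.add_sub_cancel]
      exact Nat.modEq_zero_iff_dvd.1 h
  · rw [card_line h2 hX1 x₀.2 hQ₀ one_ne_zero, if_neg hsq] at hS1c h4
    rw [hN, hqq] at hS1c h4
    rw [Nat.sub_zero, ← Nat.mul_succ] at h4
    refine Or.inl (hco.mul_dvd_of_dvd_of_dvd (Nat.Coprime.dvd_of_dvd_mul_left ?_ h4)
      (hsN.dvd_of_dvd_mul_left ?_))
    · rw [show (4 : ℕ) = 2 ^ 2 from rfl]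
      exact (Nat.coprime_two_left.2 hqodd).pow_left 2
    · have h := Nat.modEq_zero_iff_dvd.1 hS1c
      rwa [mul_add, mul_one]

end Cfsg.Agent.PrimeGraphBC
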