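import Cfsg.Agent.Lib.PrimeGraphBC.Transfer

/-!
Pairs of odd prime orders in `PSp_{2n}(q)` and `PΩ_{2n+1}(q)`.
-/

set_option autoImplicit false
set_option linter.unusedSectionVars false

namespace Cfsg.Agent.PrimeGraphBC

open Module FormsLib

variable {F : Type*} [Field F] [Fintype F]

theorem elem_pad {e : F} {a b r : ℕ} (ha : HasElem F e a r) (hb : HasForm F e b) :
    HasElem F e (a + b) r := by
  obtain ⟨B, S, hB, hS, hSr, hS1⟩ := ha
  obtain ⟨C, hC⟩ := hb
  refine hasElem_of (V := (Fin a → F) × (Fin b → F)) (by simp) (hB.prod hC) (S := S.prodMap 1)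
    (hS.prod Pres.one) ?_ (prodMap_ne_one_left _ hS1)
  rw [prodMap_pow, hSr, one_pow, LinearMap.prodMap_one]

theorem two_le_of_elem (h2 : (2 : F) ≠ 0) {c r : ℕ} (h : HasElem F (-1) c r) : Even c ∧ 2 ≤ c := by
  obtain ⟨B, S, hB, -, -, hS1⟩ := h
  have hev := hB.even h2
  rw [Module.finrank_fin_fun] at hev
  refine ⟨hev, ?_⟩
  by_contra hc
  obtain rfl : c = 0 := by obtain ⟨j, rfl⟩ := hev; omega
  exact hS1 (LinearMap.ext fun v => Subsingleton.elim _ _)

/-- No isometry of odd order above one on a line. -/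
theorem not_elem_one (h2 : (2 : F) ≠ 0) {r : ℕ} (hr : Odd r) : ¬ HasElem F (1 : F) 1 r := by
  rintro ⟨B, S, hB, hS, hSr, hS1⟩
  set u : Fin 1 → F := fun _ => 1
  have hu : ∀ v : Fin 1 → F, v = v 0 • u := fun v => funext fun i => by
    rw [Subsingleton.elim i 0]; simp [u]
  have hBu : B u u ≠ 0 := fun h0 => by
    have := hB.sep u fun v => by rw [hu v, map_smul, h0, smul_zero]
    exact one_ne_zero (congrFun this 0 : (1 : F) = 0)
  set l := S u 0
  have hSu : S u = l • u := hu (S u)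
  have hl : l * l = 1 := by
    have := hS u u
    rw [hSu, map_smul, map_smul, LinearMap.smul_apply, smul_eq_mul, smul_eq_mul, ← mul_assoc] at this
    exact (mul_eq_right₀ hBu).1 this
  refine hS1 (LinearMap.ext fun v => eq_one_of_sq hr hSr ?_)
  rw [hu v, map_smul, hSu, map_smul, map_smul, hSu, smul_smul l l, hl, one_smul]

/-- A regular unipotent isometry of a three-dimensional symmetric form. -/
theorem elem_three (p : ℕ) [hp : Fact p.Prime] [CharP F p] (h2 : (2 : F) ≠ 0) : HasElem F (1 : F) 3 p := by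
  let C : LinearMap.BilinForm F (F × F × F) :=
    LinearMap.mk₂ F (fun u v => u.1 * v.2.2 + u.2.2 * v.1 + u.2.1 * v.2.1)
      (fun u u' v => by simp only [Prod.fst_add, Prod.snd_add]; ring)
      (fun c u v => by simp only [Prod.smul_fst, Prod.smul_snd, smul_eq_mul]; ring)
      (fun u v v' => by simp only [Prod.fst_add, Prod.snd_add]; ring)
      (fun c u v => by simp only [Prod.smul_fst, Prod.smul_snd, smul_eq_mul]; ring)
  have hC : Form 1 C := ⟨fun u v => by simp only [C, LinearMap.mk₂_apply]; ring, fun u h => by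
    have h1 := h (1, 0, 0)
    have h2 := h (0, 1, 0)
    have h3 := h (0, 0, 1)
    simp [C] at h1 h2 h3
    exact Prod.ext h3 (Prod.ext h2 h1)⟩
  let g : Module.End F (F × F × F) :=
    { toFun := fun u => (u.1 - u.2.1 - u.2.2 / 2, u.2.1 + u.2.2, u.2.2)
      map_add' := fun u u' => by
        refine Prod.ext ?_ (Prod.ext ?_ ?_) <;> simp only [Prod.fst_add, Prod.snd_add] <;> ring
      map_smul' := fun c u => by
        refine Prod.ext ?_ (Prod.ext ?_ ?_) <;>
          simp only [Prod.smul_fst, Prod.smul_snd, smul_eq_mul, RingHom.id_apply] <;> ring }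
  have hgp : Pres C g := fun u v => by
    simp only [C, g, LinearMap.mk₂_apply, LinearMap.coe_mk, AddHom.coe_mk]
    field_simp
    ring
  have hpow : ∀ (j : ℕ) (u : F × F × F), (g ^ j) u =
      (u.1 - (j : F) * u.2.1 - (j : F) * (j : F) / 2 * u.2.2, u.2.1 + (j : F) * u.2.2, u.2.2) := by
    intro j
    induction j with
    | zero => intro u; simp
    | succ j ih =>
      intro u
      rw [pow_succ, Module.End.mul_apply, ih]
      refine Prod.ext ?_ (Prod.ext ?_ rfl) <;> simp only [g, LinearMap.coe_mk, AddHom.coe_mk] <;> push_cast <;>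
        field_simp <;> ring
  refine hasElem_of (V := F × F × F) (by simp [Module.finrank_prod]) hC hgp ?_ ?_
  · refine LinearMap.ext fun u => ?_
    rw [hpow, CharP.cast_eq_zero]
    simp
  · intro h
    have := congrArg (fun x : F × F × F => x.2.1) (LinearMap.congr_fun h (0, 0, 1))
    simp [g] at this

theorem elem_two (p : ℕ) [hp : Fact p.Prime] [CharP F p] : HasElem F (-1 : F) 2 p := by
  obtain ⟨g, hg, hgj⟩ := GLOrders.exists_sp_iso (F := F) p (e := 1) (o := p) le_rfl (Or.inl rfl)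
  exact hasElem_of (V := Fin 1 ⊕ Fin 1 → F) (by simp) (form_spB 1)
    (S := FormTorus.en g) hg ((hgj p).2 dvd_rfl) fun h =>
      hp.out.not_dvd_one ((hgj 1).1 (by rw [pow_one]; exact h))

variable {p : ℕ} [hp : Fact p.Prime] [CharP F p]

theorem pair_sp_to_orth (h2 : (2 : F) ≠ 0) {n r s : ℕ} (hr : Odd r) (hs : Odd s) (hrF : (r : F) ≠ 0)
    (hsF : (s : F) ≠ 0 ∨ s = p) (h : HasPair F (-1) (2 * n) r s) : HasPair F 1 (2 * n + 1) r s := by
  obtain ⟨a, -, had, h' | ⟨c, hac, hA, hC⟩⟩ := pair_transfer h2 (Or.inr rfl) hr hrF h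
  · rw [neg_neg] at h'
    rw [show 2 * n + 1 = a + (2 * n + 1 - a) by omega]
    exact pair_pad h' (hasForm_one _)
  rw [neg_neg] at hA
  obtain ⟨hcev, hc2⟩ := two_le_of_elem h2 hC
  rcases hsF with hsF | rfl
  · obtain ⟨b, -, hbc, hB⟩ := elem_transfer h2 (Or.inr rfl) hs hsF hC
    rw [neg_neg] at hB
    rw [show 2 * n + 1 = a + b + (2 * n + 1 - (a + b)) by omega]
    exact pair_pad (pair_sum hA hB) (hasForm_one _)
  · rw [show 2 * n + 1 = a + (3 + (c - 2)) by omega]
    exact pair_sum hA (elem_pad (elem_three s h2) (hasForm_one _))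

theorem pair_orth_to_sp (h2 : (2 : F) ≠ 0) {n r s : ℕ} (hr : Odd r) (hs : Odd s) (hrF : (r : F) ≠ 0)
    (hsF : (s : F) ≠ 0 ∨ s = p) (h : HasPair F 1 (2 * n + 1) r s) : HasPair F (-1) (2 * n) r s := by
  obtain ⟨a, haev, had, h' | ⟨c, hac, hA, hC⟩⟩ := pair_transfer h2 (Or.inl rfl) hr hrF h
  · obtain ⟨i, rfl⟩ := haev
    rw [show 2 * n = i + i + ((n - i) + (n - i)) by omega]
    exact pair_pad h' (hasForm_neg_one ⟨_, rfl⟩)
  obtain ⟨i, rfl⟩ := haev
  rcases hsF with hsF | rfl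
  · obtain ⟨b, hbev, hbc, hB⟩ := elem_transfer h2 (Or.inl rfl) hs hsF hC
    obtain ⟨j, rfl⟩ := hbev
    rw [show 2 * n = i + i + (j + j) + ((n - i - j) + (n - i - j)) by omega]
    exact pair_pad (pair_sum hA hB) (hasForm_neg_one ⟨_, rfl⟩)
  · have hc3 : c ≠ 1 := fun hc => not_elem_one h2 hs (hc ▸ hC)
    rw [show 2 * n = i + i + (2 + ((n - i - 1) + (n - i - 1))) by omega]
    exact pair_sum hA (elem_pad (elem_two s) (hasForm_neg_one ⟨_, rfl⟩))

theorem psp_of_pair (h2 : (2 : F) ≠ 0) {n r s : ℕ} (hr : r.Prime) (hs : s.Prime) (hro : Odd r) (hso : Odd s)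
    (hrs : r ≠ s) (h : HasPair F (-1) (2 * n) r s) :
    r * s ∈ Set.range (orderOf : Cfsg.PSp n F → ℕ) := by
  obtain ⟨B, S, T, hB, hS, hT, hc, hSr, hTs, hS1, hT1⟩ := h
  haveI := Fact.mk hr
  haveI := Fact.mk hs
  refine psp_witness h2 hB (Module.finrank_fin_fun F) (hS.mul hT) fun j hj => ?_
  have h2j : (S * T) ^ (2 * j) = 1 := by
    rw [mul_comm 2 j, pow_mul, pow_two]
    rcases hj with h | h <;> rw [h]
    · exact one_mul _
    · exact LinearMap.ext fun v => neg_neg v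
  have hord : orderOf (S * T) = r * s := by
    rw [hc.orderOf_mul_eq_mul_orderOf_of_coprime, orderOf_eq_prime hSr hS1, orderOf_eq_prime hTs hT1]
    rw [orderOf_eq_prime hSr hS1, orderOf_eq_prime hTs hT1]
    exact (Nat.coprime_primes hr hs).2 hrs
  exact (Nat.coprime_two_right.2 (hro.mul hso)).dvd_of_dvd_mul_left (hord ▸ orderOf_dvd_of_pow_eq_one h2j)

theorem pair_of_psp {n r s : ℕ} (hr : r.Prime) (hs : s.Prime) (hro : Odd r) (hso : Odd s)
    (h : r * s ∈ Set.range (orderOf : Cfsg.PSp n F → ℕ)) : HasPair F (-1) (2 * n) r s := by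
  obtain ⟨x, hx⟩ := h
  obtain ⟨S, T, hc, hS, hT, hS1, hT1, hpS, hpT⟩ :=
    GLOrders.split_of_order (F := F) 0 x hx hr.one_lt hs.one_lt (Or.inl (hro.mul hso))
  exact hasPair_of (by simp; omega) (form_spB n) hpS hpT hc hS hT hS1 hT1

theorem pomega_of_pair (h2 : (2 : F) ≠ 0) {n r s : ℕ} (hn : 3 ≤ n) (hr : r.Prime) (hs : s.Prime) (hro : Odd r)
    (hso : Odd s) (hrs : r ≠ s) (h : HasPair F 1 (2 * n + 1) r s) :
    r * s ∈ Set.range (orderOf : Cfsg.POmega F (Cfsg.quadFormOdd n F) → ℕ) := by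
  obtain ⟨B, S, T, hB, hS, hT, hc, hSr, hTs, hS1, hT1⟩ := h
  haveI := Fact.mk hr
  haveI := Fact.mk hs
  obtain ⟨gS, hgS⟩ := exists_oGroup h2 hB hS
  obtain ⟨gT, hgT⟩ := exists_oGroup h2 hB hT
  have h1 : gS ^ r = 1 := (eq_one_iff (coe_pow hgS r)).2 hSr
  have h1' : gT ^ s = 1 := (eq_one_iff (coe_pow hgT s)).2 hTs
  have hoS : orderOf gS = r := orderOf_eq_prime h1 fun e => hS1 ((eq_one_iff hgS).1 e)
  have hoT : orderOf gT = s := orderOf_eq_prime h1' fun e => hT1 ((eq_one_iff hgT).1 e)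
  refine pomega_witness h2 hn (Module.finrank_fin_fun F) (quad_nondeg h2 hB) (g := gS * gT)
    (mul_mem (odd_mem_commutator h2 (quad_nondeg h2 hB) hro h1)
      (odd_mem_commutator h2 (quad_nondeg h2 hB) hso h1')) ?_
  rw [(commute_of hgS hgT hc).orderOf_mul_eq_mul_orderOf_of_coprime, hoS, hoT]
  rw [hoS, hoT]
  exact (Nat.coprime_primes hr hs).2 hrs

omit [CharP F p] hp in
/-- An element of the derived group as endomorphisms of the standard space. -/
theorem form_polar (h2 : (2 : F) ≠ 0) (n : ℕ) :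
    Form (1 : F) (QuadraticMap.polarBilin (qOdd n F)) :=
  ⟨fun u v => by simp [QuadraticMap.polar_comm (qOdd n F) v u], (qOdd_nondeg h2).1⟩

theorem pair_of_pomega (h2 : (2 : F) ≠ 0) {n r s : ℕ} (hn : 3 ≤ n) (hr : r.Prime) (hs : s.Prime)
    (h : r * s ∈ Set.range (orderOf : Cfsg.POmega F (Cfsg.quadFormOdd n F) → ℕ)) :
    HasPair F 1 (2 * n + 1) r s := by
  obtain ⟨g, -, hg⟩ := pomega_split h2 hn h
  let E : Module.End F (Unit ⊕ (Fin n ⊕ Fin n) → F) := g.1.toLinearMap
  have hE : ∀ v, g.1 v = E v := fun v => rfl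
  have hp' : Pres (QuadraticMap.polarBilin (qOdd n F)) E := fun u v => polar_of_mem g.2 u v
  have hpow : ∀ j, E ^ j = 1 → r * s ∣ j := fun j hj =>
    hg ▸ orderOf_dvd_of_pow_eq_one ((eq_one_iff (coe_pow hE j)).2 hj)
  have hall : E ^ (r * s) = 1 := (eq_one_iff (coe_pow hE _)).1 (hg ▸ pow_orderOf_eq_one g)
  refine hasPair_of (by simp; omega) (form_polar h2 n) (S := E ^ s) (T := E ^ r) (hp'.pow s) (hp'.pow r)
    ((Commute.refl E).pow_pow s r) (by rw [← pow_mul, mul_comm, hall]) (by rw [← pow_mul, hall]) ?_ ?_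
  · intro e
    have := Nat.le_of_dvd hs.pos (hpow s e)
    have := hr.two_le; have := hs.two_le
    nlinarith
  · intro e
    have := Nat.le_of_dvd hr.pos (hpow r e)
    have := hr.two_le; have := hs.two_le
    nlinarith

end Cfsg.Agent.PrimeGraphBC
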