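import Cfsg.Agent.Lib.PrimeGraphBC.Base

/-!
Exchanging symmetric and alternating forms along an isometry of odd order prime to the characteristic.
-/

set_option autoImplicit false
set_option linter.unusedSectionVars false

namespace Cfsg.Agent.PrimeGraphBC

open Module FormsLib

variable {F : Type*} [Field F] [Fintype F] {V : Type*} [AddCommGroup V] [Module F V] [FiniteDimensional F V]

theorem restrict_pow {P : Module.End F V} {W : Submodule F V} (h : ∀ v ∈ W, P v ∈ W) (j : ℕ) (v : W) :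
    (((P.restrict h) ^ j) v : V) = (P ^ j) (v : V) := by
  induction j generalizing v with
  | zero => rfl
  | succ j ih => rw [pow_succ, pow_succ, Module.End.mul_apply, Module.End.mul_apply, ih]; rfl

theorem restrict_eq_one {P : Module.End F V} {W : Submodule F V} (h : ∀ v ∈ W, P v ∈ W) {j : ℕ}
    (hP : P ^ j = 1) : (P.restrict h) ^ j = 1 :=
  LinearMap.ext fun v => Subtype.ext (by rw [restrict_pow, hP]; rfl)

theorem restrict_commute {P P' : Module.End F V} {W : Submodule F V} (h : ∀ v ∈ W, P v ∈ W)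
    (h' : ∀ v ∈ W, P' v ∈ W) (hc : Commute P P') : Commute (P.restrict h) (P'.restrict h') :=
  LinearMap.ext fun v => Subtype.ext (LinearMap.congr_fun hc.eq (v : V))

theorem eq_one_of_sq {r : ℕ} (hr : Odd r) {S : Module.End F V} (hS : S ^ r = 1) {v : V}
    (h : S (S v) = v) : S v = v := by
  obtain ⟨j, rfl⟩ := hr
  have hit : ∀ i : ℕ, (S ^ (2 * i)) v = v := by
    intro i
    induction i with
    | zero => simp
    | succ i ih => rw [mul_add, mul_one, pow_add, Module.End.mul_apply, pow_two, Module.End.mul_apply, h, ih]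
  have := LinearMap.congr_fun hS v
  rwa [pow_succ', Module.End.mul_apply, hit, Module.End.one_apply] at this

/-- The twist of a form by an isometry of odd order prime to the characteristic. -/
theorem twist (h2 : (2 : F) ≠ 0) {e : F} (he : e = 1 ∨ e = -1) {B : LinearMap.BilinForm F V} (hB : Form e B)
    {r : ℕ} (hr : Odd r) (hrF : (r : F) ≠ 0) {S : Module.End F V} (hS : Pres B S) (hSr : S ^ r = 1) :
    ∃ (W X : Submodule F V) (B' : LinearMap.BilinForm F W), Form (-e) B' ∧ Form e (B.restrict W) ∧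
      Form e (B.restrict X) ∧ finrank F W + finrank F X = finrank F V ∧ W ⊔ X = ⊤ ∧ Even (finrank F W) ∧
      (∀ v ∈ X, S v = v) ∧ (∀ v ∈ W, S v = v → v = 0) ∧
      ∀ P : Module.End F V, Commute S P → Pres B P → ∃ (hW : ∀ v ∈ W, P v ∈ W) (hX : ∀ v ∈ X, P v ∈ X),
        Pres B' (P.restrict hW) ∧ Pres (B.restrict W) (P.restrict hW) ∧
          Pres (B.restrict X) (P.restrict hX) := by
  obtain ⟨hWn, -, hWS, hfpf, hdim, hXn, hsup⟩ :=
    GLOrders.nonDegOn_moved hrF hSr hS (W := ⊤) (fun _ _ => trivial) (GLOrders.nonDegOn_top hB.nondeg)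
  set W := (⊤ : Submodule F V).map (S - 1) with hW
  set X := (⊤ : Submodule F V) ⊓ LinearMap.ker (S - 1) with hX
  rw [finrank_top] at hdim
  have hBW : Form e (B.restrict W) :=
    ⟨fun u v => hB.flip u v, fun u h => Subtype.ext (hWn u u.2 fun v hv => h ⟨v, hv⟩)⟩
  have hBX : Form e (B.restrict X) :=
    ⟨fun u v => hB.flip u v, fun u h => Subtype.ext (hXn u u.2 fun v hv => h ⟨v, hv⟩)⟩
  set S' := S ^ (r - 1) with hS'
  have hr1 : r - 1 + 1 = r := Nat.sub_add_cancel hr.pos
  have hinv : ∀ v, S (S' v) = v := fun v => by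
    rw [hS', ← Module.End.mul_apply, ← pow_succ', hr1, hSr, Module.End.one_apply]
  have hinv' : ∀ v, S' (S v) = v := fun v => by
    rw [hS', ← Module.End.mul_apply, ← pow_succ, hr1, hSr, Module.End.one_apply]
  have hS'W : ∀ v ∈ W, S' v ∈ W := fun v hv => GLOrders.pow_apply_mem hWS _ v hv
  let D : W →ₗ[F] W := (S - S').restrict (p := W) (q := W) fun v hv => by
    rw [LinearMap.sub_apply]; exact W.sub_mem (hWS v hv) (hS'W v hv)
  let B' : LinearMap.BilinForm F W := LinearMap.comp (B.restrict W) D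
  have hB' : ∀ u v : W, B' u v = B (S u - S' u) (v : V) := fun u v => rfl
  have hflip : ∀ u v, B' v u = -e * B' u v := fun u v => by
    have h1 : B (S (v : V)) (u : V) = B (v : V) (S' u) := by
      have := hS (v : V) (S' u); rwa [hinv] at this
    have h2' : B (S' (v : V)) (u : V) = B (v : V) (S u) := by
      have := hS (S' (v : V)) (u : V); rw [hinv] at this; exact this.symm
    rw [hB', hB', map_sub, map_sub, LinearMap.sub_apply, LinearMap.sub_apply, h1, h2',
      hB.flip (S' (u : V)) (v : V), hB.flip (S (u : V)) (v : V)]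
    ring
  have hBF' : Form (-e) B' := by
    refine ⟨hflip, fun u h => Subtype.ext (hfpf u u.2 (eq_one_of_sq hr hSr ?_))⟩
    have h0 : S (u : V) - S' u = 0 := hWn _ (W.sub_mem (hWS u u.2) (hS'W u u.2)) fun v hv => h ⟨v, hv⟩
    rw [sub_eq_zero] at h0
    rw [h0, hinv]
  have hev : Even (finrank F W) := by
    rcases he with rfl | rfl
    · exact hBF'.even h2
    · exact hBW.even h2
  refine ⟨W, X, B', hBF', hBW, hBX, by omega, by rw [sup_comm]; exact hsup, hev,
    fun v hv => by simpa [sub_eq_zero] using hv.2, hfpf, fun P hc hP => ?_⟩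
  have hcv : ∀ v, S (P v) = P (S v) := fun v => LinearMap.congr_fun hc.eq v
  have hcv' : ∀ v, S' (P v) = P (S' v) := fun v => LinearMap.congr_fun (hc.pow_left (r - 1)).eq v
  refine ⟨by rintro _ ⟨u, -, rfl⟩; exact ⟨P u, trivial, by simp [hcv]⟩,
    fun v hv => ⟨trivial, GLOrders.ker_inv hc v hv.2⟩, fun u v => ?_, fun u v => hP u v, fun u v => hP u v⟩
  show B (S (P (u : V)) - S' (P u)) (P v) = B (S (u : V) - S' u) v
  rw [hcv, hcv', ← map_sub, hP]

/-- The moved space of an isometry of prime order carries one of the opposite sign. -/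
theorem elem_transfer (h2 : (2 : F) ≠ 0) {e : F} (he : e = 1 ∨ e = -1) {d r : ℕ} (hr : Odd r)
    (hrF : (r : F) ≠ 0) (h : HasElem F e d r) : ∃ a, Even a ∧ a ≤ d ∧ HasElem F (-e) a r := by
  obtain ⟨B, S, hB, hS, hSr, hS1⟩ := h
  obtain ⟨W, X, B', hB', -, -, hd, hsup, hev, hfix, -, hall⟩ := twist h2 he hB hr hrF hS hSr
  obtain ⟨hW, hX, hpS, -, -⟩ := hall S (Commute.refl S) hS
  rw [Module.finrank_fin_fun] at hd
  refine ⟨_, hev, by omega, hasElem_of rfl hB' hpS (restrict_eq_one hW hSr) fun h1 => hS1 ?_⟩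
  refine LinearMap.ext fun v => ?_
  obtain ⟨a, ha, b, hb, rfl⟩ := Submodule.mem_sup.1 (hsup ▸ Submodule.mem_top : v ∈ W ⊔ X)
  rw [map_add, hfix b hb, show S a = a from congrArg Subtype.val (LinearMap.congr_fun h1 ⟨a, ha⟩),
    Module.End.one_apply]

/-- A commuting pair splits along the moved space. -/
theorem pair_transfer (h2 : (2 : F) ≠ 0) {e : F} (he : e = 1 ∨ e = -1) {d r s : ℕ} (hr : Odd r)
    (hrF : (r : F) ≠ 0) (h : HasPair F e d r s) :
    ∃ a, Even a ∧ a ≤ d ∧
      (HasPair F (-e) a r s ∨ ∃ c, a + c = d ∧ HasElem F (-e) a r ∧ HasElem F e c s) := by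
  obtain ⟨B, S, T, hB, hS, hT, hc, hSr, hTs, hS1, hT1⟩ := h
  obtain ⟨W, X, B', hB', hBW, hBX, hd, hsup, hev, hfix, -, hall⟩ := twist h2 he hB hr hrF hS hSr
  obtain ⟨hSW, -, hpS, -, -⟩ := hall S (Commute.refl S) hS
  obtain ⟨hTW, hTX, hpT, -, hpTX⟩ := hall T hc hT
  rw [Module.finrank_fin_fun] at hd
  have hS1' : S.restrict hSW ≠ 1 := fun h1 => hS1 (LinearMap.ext fun v => by
    obtain ⟨a, ha, b, hb, rfl⟩ := Submodule.mem_sup.1 (hsup ▸ Submodule.mem_top : v ∈ W ⊔ X)
    rw [map_add, hfix b hb, show S a = a from congrArg Subtype.val (LinearMap.congr_fun h1 ⟨a, ha⟩),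
      Module.End.one_apply])
  refine ⟨_, hev, by omega, ?_⟩
  by_cases hTX1 : T.restrict hTX = 1
  · refine Or.inl (hasPair_of rfl hB' hpS hpT (restrict_commute hSW hTW hc) (restrict_eq_one hSW hSr)
      (restrict_eq_one hTW hTs) hS1' fun h1 => hT1 (LinearMap.ext fun v => ?_))
    obtain ⟨a, ha, b, hb, rfl⟩ := Submodule.mem_sup.1 (hsup ▸ Submodule.mem_top : v ∈ W ⊔ X)
    rw [map_add, show T a = a from congrArg Subtype.val (LinearMap.congr_fun h1 ⟨a, ha⟩),
      show T b = b from congrArg Subtype.val (LinearMap.congr_fun hTX1 ⟨b, hb⟩), Module.End.one_apply]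
  · exact Or.inr ⟨_, hd, hasElem_of rfl hB' hpS (restrict_eq_one hSW hSr) hS1',
      hasElem_of rfl hBX hpTX (restrict_eq_one hTX hTs) hTX1⟩

end Cfsg.Agent.PrimeGraphBC
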