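import Cfsg.Agent.Lib.PrimeGraphBC.Odd
import Cfsg.Agent.Lib.Recog.SpectrumBC

/-!
Elements of order twice an odd prime in `PSp_{2n}(q)` and `PΩ_{2n+1}(q)`.
-/

set_option autoImplicit false
set_option linter.unusedSectionVars false
set_option linter.style.haveILetI false
set_option maxHeartbeats 800000

namespace Cfsg.Agent.PrimeGraphBC

open Module FormsLib

variable {F : Type*} [Field F] [Fintype F] {V : Type*} [AddCommGroup V] [Module F V] [FiniteDimensional F V]

theorem neg_ne_self (h2 : (2 : F) ≠ 0) {T : Module.End F V} (hT : T ≠ 0) : -T ≠ T := fun h => hT <|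
  LinearMap.ext fun v => by
    have hv : -T v = T v := LinearMap.congr_fun h v
    exact (smul_eq_zero.1 (show (2 : F) • T v = 0 by rw [two_smul]; nth_rewrite 1 [← hv]; exact neg_add_cancel _)).resolve_left h2

theorem end_neg_sq {W : Type*} [AddCommGroup W] [Module F W] (T : Module.End F W) : (-T) ^ 2 = T ^ 2 :=
  LinearMap.ext fun v => by simp [pow_two]

theorem end_neg_one_sq {W : Type*} [AddCommGroup W] [Module F W] : (-1 : Module.End F W) ^ 2 = 1 := by
  rw [end_neg_sq, one_pow]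

theorem end_neg_odd {W : Type*} [AddCommGroup W] [Module F W] (T : Module.End F W) {j : ℕ} (hj : Odd j) :
    (-T) ^ j = -(T ^ j) := by
  obtain ⟨i, rfl⟩ := hj
  rw [pow_add, pow_mul, end_neg_sq, pow_one, ← pow_mul, pow_add (T) (2 * i) 1, pow_one]
  exact LinearMap.ext fun v => by simp

theorem end_commute_neg {W : Type*} [AddCommGroup W] [Module F W] {T S : Module.End F W} (h : Commute T S) :
    Commute (-T) S :=
  LinearMap.ext fun v => by
    have := LinearMap.congr_fun h.eq v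
    simp only [Module.End.mul_apply, LinearMap.neg_apply, map_neg] at this ⊢
    rw [this]

theorem end_mul_neg {W : Type*} [AddCommGroup W] [Module F W] (T S : Module.End F W) : T * -S = -(T * S) :=
  LinearMap.ext fun v => by simp

theorem psp_two_witness (h2 : (2 : F) ≠ 0) {n s : ℕ} (hs : s.Prime) (hso : Odd s)
    {B : LinearMap.BilinForm F V} (hB : Form (-1) B) (hd : finrank F V = 2 * n) {t S : Module.End F V}
    (ht : Pres B t) (hS : Pres B S) (hc : Commute t S) (ht2 : t ^ 2 = 1) (ht1 : t ≠ 1) (ht1' : t ≠ -1)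
    (hSs : S ^ s = 1) (hS1 : S ≠ 1) : 2 * s ∈ Set.range (orderOf : Cfsg.PSp n F → ℕ) := by
  haveI := Fact.mk hs
  refine psp_witness h2 hB hd (ht.mul hS) fun j hj => ?_
  have h2j : S ^ (2 * j) = 1 := by
    have h : (t * S) ^ (2 * j) = 1 := by
      rw [mul_comm 2 j, pow_mul, pow_two]
      rcases hj with h | h <;> rw [h]
      · exact one_mul _
      · exact LinearMap.ext fun v => neg_neg v
    rwa [hc.mul_pow, pow_mul t 2 j, ht2, one_pow, one_mul] at h
  have hsj : s ∣ j := (Nat.coprime_two_right.2 hso).dvd_of_dvd_mul_left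
    (orderOf_eq_prime hSs hS1 ▸ orderOf_dvd_of_pow_eq_one h2j)
  refine (Nat.coprime_two_left.2 hso).mul_dvd_of_dvd_of_dvd ?_ hsj
  obtain ⟨i, rfl⟩ := hsj
  rw [hc.mul_pow, pow_mul S, hSs, one_pow, mul_one] at hj
  by_contra hodd
  rw [← even_iff_two_dvd, Nat.not_even_iff_odd] at hodd
  obtain ⟨k, hk⟩ := hodd
  rw [hk, pow_add, pow_mul, ht2, one_pow, one_mul, pow_one] at hj
  exact hj.elim ht1 ht1'

theorem pomega_two_witness (h2 : (2 : F) ≠ 0) {n s : ℕ} (hn : 3 ≤ n) (hs : s.Prime) (hso : Odd s)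
    (hd : finrank F V = 2 * n + 1) {Q : QuadraticForm F V} (hQ : (QuadraticMap.polarBilin Q).Nondegenerate)
    {h : oGroup Q} (hh : h ∈ commutator (oGroup Q)) (hh2 : h ^ 2 = 1) (hh1 : h ≠ 1) {S : oGroup Q}
    (hc : Commute h S) (hSs : S ^ s = 1) (hS1 : S ≠ 1) :
    2 * s ∈ Set.range (orderOf : Cfsg.POmega F (Cfsg.quadFormOdd n F) → ℕ) := by
  haveI := Fact.mk hs
  refine pomega_witness h2 hn hd hQ (g := h * S) (mul_mem hh (odd_mem_commutator h2 hQ hso hSs)) ?_
  rw [hc.orderOf_mul_eq_mul_orderOf_of_coprime, orderOf_eq_prime hh2 hh1, orderOf_eq_prime hSs hS1]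
  rw [orderOf_eq_prime hh2 hh1, orderOf_eq_prime hSs hS1]
  exact Nat.coprime_two_left.2 hso

omit [FiniteDimensional F V] in
theorem psp_two_of_elem (h2 : (2 : F) ≠ 0) {n a s : ℕ} (hs : s.Prime) (hso : Odd s)
    (ha : HasElem F (-1) a s) (han : a + 2 ≤ 2 * n) : 2 * s ∈ Set.range (orderOf : Cfsg.PSp n F → ℕ) := by
  obtain ⟨i, rfl⟩ := (two_le_of_elem h2 ha).1
  obtain ⟨B, S, hB, hS, hSs, hS1⟩ := ha
  refine psp_two_witness (V := (Fin (i + i) → F) × (Fin (n - i) ⊕ Fin (n - i) → F)) h2 hs hso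
    (hB.prod (form_spB (n - i))) (by simp [Module.finrank_prod]; omega)
    (t := LinearMap.prodMap 1 (-1)) (S := S.prodMap 1) (Pres.one.prod Pres.neg_one) (hS.prod Pres.one)
    (commute_prodMap (Commute.one_left _) (Commute.one_right _)) ?_ ?_ ?_ ?_ (prodMap_ne_one_left _ hS1)
  · rw [prodMap_pow, one_pow, end_neg_one_sq, LinearMap.prodMap_one]
  · refine prodMap_ne_one_right _ (neg_ne_self h2 fun h => ?_)
    have := congrFun (LinearMap.congr_fun h (Pi.single (Sum.inl ⟨0, by omega⟩) 1)) (Sum.inl ⟨0, by omega⟩)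
    simp at this
  · intro h
    refine hS1 (LinearMap.ext fun v => ?_)
    have hv : v = -v := congrArg Prod.fst (LinearMap.congr_fun h (v, 0))
    have hv0 : v = 0 := (smul_eq_zero.1 (show (2 : F) • v = 0 by
      rw [two_smul]; nth_rewrite 1 [hv]; exact neg_add_cancel v)).resolve_left h2
    rw [hv0, map_zero, map_zero]
  · rw [prodMap_pow, hSs, one_pow, LinearMap.prodMap_one]

omit [FiniteDimensional F V] in
theorem pomega_two_of_elem (h2 : (2 : F) ≠ 0) {n a s : ℕ} (hn : 3 ≤ n) (hs : s.Prime) (hso : Odd s)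
    (ha : HasElem F 1 a s) (han : a + 2 ≤ 2 * n + 1) :
    2 * s ∈ Set.range (orderOf : Cfsg.POmega F (Cfsg.quadFormOdd n F) → ℕ) := by
  obtain ⟨B, S, hB, hS, hSs, hS1⟩ := ha
  let J₀ : Module.End F (Fin 2 → F) :=
    { toFun := fun v => ![-v 1, v 0]
      map_add' := fun u v => by funext i; fin_cases i <;> simp [add_comm]
      map_smul' := fun c v => by funext i; fin_cases i <;> simp }
  have hJ₀ : Pres (dotB F 2) J₀ := fun u v => by
    simp [J₀, dotB, dotProduct, Fin.sum_univ_two]; ring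
  have hJ₀2 : J₀ ^ 2 = -1 := LinearMap.ext fun v => by
    funext i; fin_cases i <;> simp [pow_two, J₀]
  let V' := (Fin a → F) × ((Fin 2 → F) × (Fin (2 * n + 1 - (a + 2)) → F))
  let B' : LinearMap.BilinForm F V' := pr B (pr (dotB F 2) (dotB F _))
  have hB' : Form 1 B' := hB.prod ((form_dotB 2).prod (form_dotB _))
  let J : Module.End F V' := LinearMap.prodMap 1 (J₀.prodMap 1)
  let S' : Module.End F V' := S.prodMap 1
  have hJ : Pres B' J := Pres.one.prod (hJ₀.prod Pres.one)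
  obtain ⟨gJ, hgJ⟩ := exists_oGroup h2 hB' hJ
  obtain ⟨gS, hgS⟩ := exists_oGroup h2 hB' (show Pres B' S' from hS.prod Pres.one)
  have hd : finrank F V' = 2 * n + 1 := by simp [V', Module.finrank_prod]; omega
  refine pomega_two_witness h2 hn hs hso hd (quad_nondeg h2 hB') (h := gJ ^ 2) ?_ ?_ ?_ (S := gS) ?_ ?_ ?_
  · rw [pow_two]; exact sq_mem_commutator h2 (quad_nondeg h2 hB') _
  · rw [← pow_mul, eq_one_iff (coe_pow hgJ _)]
    rw [show J = LinearMap.prodMap 1 (J₀.prodMap 1) from rfl, pow_mul, prodMap_pow, prodMap_pow,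
      prodMap_pow, prodMap_pow, hJ₀2, one_pow, one_pow, one_pow, one_pow, end_neg_one_sq,
      LinearMap.prodMap_one, LinearMap.prodMap_one]
  · intro h
    rw [eq_one_iff (coe_pow hgJ _)] at h
    rw [show J = LinearMap.prodMap 1 (J₀.prodMap 1) from rfl, prodMap_pow, prodMap_pow, hJ₀2, one_pow,
      one_pow] at h
    have := (prodMap_inj ((prodMap_inj (h.trans LinearMap.prodMap_one.symm)).2.trans LinearMap.prodMap_one.symm)).1
    refine neg_ne_self h2 (fun h0 => ?_) this
    have := congrFun (LinearMap.congr_fun h0 (Pi.single 0 1)) 0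
    simp at this
  · exact (commute_of hgJ hgS (commute_prodMap (Commute.one_left _) (Commute.one_right _))).pow_left 2
  · rw [eq_one_iff (coe_pow hgS _), prodMap_pow, hSs, one_pow, LinearMap.prodMap_one]
  · exact fun h => prodMap_ne_one_left _ hS1 ((eq_one_iff hgS).1 h)

/-- Rank and parity of an involutory extension by a fixed complement. -/
theorem dick_prod (h2 : (2 : F) ≠ 0) {W : Type*} [AddCommGroup W] [Module F W] [FiniteDimensional F W]
    {B : LinearMap.BilinForm F W} (hB : Form (-1) B) {t : Module.End F W} (ht : Pres B t) (ht2 : t ^ 2 = 1)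
    {Q : QuadraticForm F (W × (Fin 1 → F))} {g : oGroup Q}
    (hg : ∀ v, g.1 v = (t.prodMap (1 : Module.End F (Fin 1 → F))) v) : Spinor.dick g = 1 := by
  obtain ⟨hWn, -⟩ := GLOrders.nonDegOn_moved (r := 2) (by exact_mod_cast h2) ht2 ht (W := ⊤)
    (fun _ _ => trivial) (GLOrders.nonDegOn_top hB.nondeg)
  have hev := GLOrders.even_finrank_of_nonDegOn (hB.isAlt h2) hWn
  have hmov : Spinor.mov g.1 = ((⊤ : Submodule F W).map (t - 1)).map (LinearMap.inl F W (Fin 1 → F)) := by
    ext x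
    rw [Spinor.mem_mov, Submodule.map_top]
    constructor
    · rintro ⟨y, rfl⟩
      exact ⟨(t - 1) y.1, ⟨y.1, rfl⟩, by rw [hg]; simp [Prod.ext_iff]⟩
    · rintro ⟨_, ⟨y, rfl⟩, rfl⟩
      exact ⟨(y, 0), by rw [hg]; simp [Prod.ext_iff]⟩
  rw [Spinor.dick, Spinor.rk, hmov, ← (Submodule.equivMapOfInjective _ LinearMap.inl_injective _).finrank_eq]
  exact hev.neg_one_pow

theorem pomega_of_psp_two {p : ℕ} [Fact p.Prime] [CharP F p] (h2 : (2 : F) ≠ 0) {n s : ℕ} (hn : 3 ≤ n)
    (hs : s.Prime) (hso : Odd s) (hsF : (s : F) ≠ 0) (hx : 2 * s ∈ Set.range (orderOf : Cfsg.PSp n F → ℕ)) :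
    2 * s ∈ Set.range (orderOf : Cfsg.POmega F (Cfsg.quadFormOdd n F) → ℕ) := by
  obtain ⟨x, hx⟩ := hx
  haveI := Fact.mk hs
  obtain ⟨g₀, hg₀, hgj⟩ := FormTorus.exists_iso_of_psp x
  set g : Module.End F (Fin n ⊕ Fin n → F) := (g₀ : (Fin n ⊕ Fin n → F) →ₗ[F] (Fin n ⊕ Fin n → F)) with hgdef
  have hg : Pres (spB n F) g := hg₀
  have hdvd : ∀ j, g ^ j = 1 ∨ g ^ j = -1 → 2 * s ∣ j := fun j hj =>
    hx ▸ orderOf_dvd_of_pow_eq_one ((hgj j).2 hj)
  have htop := (hgj _).1 (hx ▸ pow_orderOf_eq_one x)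
  have hnn : ((-1 : Module.End F (Fin n ⊕ Fin n → F)) * -1) = 1 := LinearMap.ext fun v => neg_neg v
  obtain ⟨S, hS, hSs, hS1, hcS⟩ : ∃ S : Module.End F (Fin n ⊕ Fin n → F), Pres (spB n F) S ∧ S ^ s = 1 ∧
      S ≠ 1 ∧ Commute (g ^ s) S := by
    have hne : ¬ (g ^ 2 = 1 ∨ g ^ 2 = -1) := fun h => by
      have := Nat.le_of_dvd two_pos (hdvd 2 h)
      have := hs.two_le
      omega
    rcases htop with h | h
    · exact ⟨g ^ 2, hg.pow 2, by rw [← pow_mul, h], fun e => hne (Or.inl e),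
        (Commute.refl g).pow_pow s 2⟩
    · refine ⟨-g ^ 2, (hg.pow 2).neg, ?_, fun e => hne (Or.inr ?_), ((Commute.refl g).pow_pow s 2).neg_right⟩
      · rw [end_neg_odd _ hso, ← pow_mul, h]
        exact LinearMap.ext fun v => neg_neg v
      · exact LinearMap.ext fun v => neg_injective ((LinearMap.congr_fun e v).trans (neg_neg v).symm)
  set t := g ^ s with htdef
  have ht : Pres (spB n F) t := hg.pow s
  have ht1 : t ≠ 1 ∧ t ≠ -1 := by
    have key : ¬ (g ^ s = 1 ∨ g ^ s = -1) := fun h => by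
      have := Nat.le_of_dvd hs.pos (hdvd s h)
      have := hs.two_le
      omega
    exact ⟨fun e => key (Or.inl e), fun e => key (Or.inr e)⟩
  obtain ⟨W, X, B', hB', hBW, hBX, hd, hsup, hev, hfix, -, hall⟩ :=
    twist h2 (Or.inr rfl) (form_spB n) hso hsF hS hSs
  obtain ⟨hSW, -, hpS, -, -⟩ := hall S (Commute.refl S) hS
  obtain ⟨htW, -, hpt, hptW, -⟩ := hall t hcS.symm ht
  rw [neg_neg] at hB'
  have hdim : finrank F (Fin n ⊕ Fin n → F) = 2 * n := by simp; omega
  rw [hdim] at hd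
  have hSW1 : S.restrict hSW ≠ 1 := fun h1 => hS1 (LinearMap.ext fun v => by
    obtain ⟨a, ha, b, hb, rfl⟩ := Submodule.mem_sup.1 (hsup ▸ Submodule.mem_top : v ∈ W ⊔ X)
    rw [map_add, hfix b hb, show S a = a from congrArg Subtype.val (LinearMap.congr_fun h1 ⟨a, ha⟩),
      Module.End.one_apply])
  by_cases hX : 2 ≤ finrank F X
  · exact pomega_two_of_elem h2 hn hs hso (hasElem_of rfl hB' hpS (restrict_eq_one hSW hSs) hSW1) (by omega)
  have hX0 : X = ⊥ := by
    rw [← Submodule.finrank_eq_zero (R := F)]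
    obtain ⟨i, hi⟩ := hBX.even h2
    omega
  have hWd : finrank F W = 2 * n := by rw [← hd, hX0, finrank_bot, add_zero]
  have hW' : ∀ v, v ∈ W := fun v => by
    have : v ∈ W ⊔ X := hsup ▸ Submodule.mem_top
    rwa [hX0, sup_bot_eq] at this
  have htW1 : t.restrict htW ≠ 1 ∧ t.restrict htW ≠ -1 :=
    ⟨fun e => ht1.1 (LinearMap.ext fun v => congrArg Subtype.val (LinearMap.congr_fun e ⟨v, hW' v⟩)),
     fun e => ht1.2 (LinearMap.ext fun v => congrArg Subtype.val (LinearMap.congr_fun e ⟨v, hW' v⟩))⟩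
  set tW := t.restrict htW
  set SW := S.restrict hSW
  have htt : tW ^ 2 = 1 ∨ tW ^ 2 = -1 := by
    have h' : t ^ 2 = 1 ∨ t ^ 2 = -1 := by
      rw [htdef, ← pow_mul, mul_comm s 2]; exact htop
    refine h'.imp (restrict_eq_one htW) fun h => LinearMap.ext fun v => Subtype.ext ?_
    rw [restrict_pow, h]; rfl
  have hcW : Commute tW SW := restrict_commute htW hSW hcS
  -- the space `W ⊕ F`
  set BU := pr B' (dotB F 1)
  have hBU : Form 1 BU := hB'.prod (form_dotB 1)
  have hQU := quad_nondeg h2 hBU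
  have hdU : finrank F (W × (Fin 1 → F)) = 2 * n + 1 := by simp [Module.finrank_prod, hWd]
  obtain ⟨gS, hgS⟩ := exists_oGroup h2 hBU (S := SW.prodMap 1) (hpS.prod Pres.one)
  have hgSs : gS ^ s = 1 := by
    rw [eq_one_iff (coe_pow hgS _), prodMap_pow, restrict_eq_one hSW hSs, one_pow, LinearMap.prodMap_one]
  have hgS1 : gS ≠ 1 := fun e => prodMap_ne_one_left _ hSW1 ((eq_one_iff hgS).1 e)
  have main : ∀ T : Module.End F W, Pres B' T → Commute T SW → T ^ 2 = 1 → T ≠ 1 →
      (∀ g : oGroup (quad BU), (∀ v, g.1 v = (T.prodMap (1 : Module.End F (Fin 1 → F))) v) →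
        g ∈ commutator _) → 2 * s ∈ Set.range (orderOf : Cfsg.POmega F (Cfsg.quadFormOdd n F) → ℕ) := by
    intro T hT hTc hT2 hT1 hmem
    obtain ⟨gT, hgT⟩ := exists_oGroup h2 hBU (S := T.prodMap 1) (hT.prod Pres.one)
    refine pomega_two_witness h2 hn hs hso hdU hQU (hmem gT hgT) ?_ ?_
      (commute_of hgT hgS (commute_prodMap hTc (Commute.one_right _))) hgSs hgS1
    · rw [eq_one_iff (coe_pow hgT _), prodMap_pow, hT2, one_pow, LinearMap.prodMap_one]
    · exact fun e => prodMap_ne_one_left _ hT1 ((eq_one_iff hgT).1 e)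
  have hWne : (1 : Module.End F W) ≠ 0 := fun h => by
    haveI : Nontrivial W := Module.nontrivial_of_finrank_pos (R := F) (by omega)
    obtain ⟨v, hv⟩ := exists_ne (0 : W)
    exact hv (LinearMap.congr_fun h v)
  rcases htt with h1 | h1
  · -- three commuting involutions with even rank
    obtain ⟨gt, hgt⟩ := exists_oGroup h2 hBU (S := tW.prodMap 1) (hpt.prod Pres.one)
    obtain ⟨gn, hgn⟩ := exists_oGroup h2 hBU (S := (-tW).prodMap 1) (hpt.neg.prod Pres.one)
    have hexc : Fintype.card F ≠ 2 ∨ finrank F (W × (Fin 1 → F)) ≠ 4 := Or.inl (Spinor.card_ne_two h2)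
    have hdick : ∀ (T : Module.End F W), Pres (LinearMap.BilinForm.restrict (spB n F) W) T → T ^ 2 = 1 →
        ∀ g : oGroup (quad BU), (∀ v, g.1 v = (T.prodMap (1 : Module.End F (Fin 1 → F))) v) →
          Spinor.dick g = 1 := fun T hT hT2 g hg => dick_prod h2 hBW hT hT2 hg
    have hn1 : (-tW) ^ 2 = 1 := by rw [end_neg_sq, h1]
    have hm1 : (-1 : Module.End F W) ^ 2 = 1 := end_neg_one_sq
    have pick : ∀ (T : Module.End F W), Pres B' T → Pres (LinearMap.BilinForm.restrict (spB n F) W) T →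
        Commute T SW → T ^ 2 = 1 → T ≠ 1 →
        (∀ g : oGroup (quad BU), (∀ v, g.1 v = (T.prodMap (1 : Module.End F (Fin 1 → F))) v) →
          Spinor.spin g = 1) → 2 * s ∈ Set.range (orderOf : Cfsg.POmega F (Cfsg.quadFormOdd n F) → ℕ) :=
      fun T hT hT' hTc hT2 hT1 hspin => main T hT hTc hT2 hT1 fun g hg =>
        (Spinor.mem_commutator_iff hQU hexc g).2 ⟨hdick T hT' hT2 g hg, hspin g hg⟩
    by_cases hst : Spinor.spin gt = 1
    · exact pick tW hpt hptW hcW h1 htW1.1 fun g hg => by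
        rw [show g = gt from Subtype.ext (LinearEquiv.ext fun v => (hg v).trans (hgt v).symm)]; exact hst
    by_cases hsn : Spinor.spin gn = 1
    · refine pick (-tW) hpt.neg hptW.neg (end_commute_neg hcW) hn1 (fun e => htW1.2 ?_) fun g hg => by
        rw [show g = gn from Subtype.ext (LinearEquiv.ext fun v => (hg v).trans (hgn v).symm)]; exact hsn
      exact LinearMap.ext fun v => neg_injective ((LinearMap.congr_fun e v).trans (neg_neg v).symm)
    refine pick (-1) Pres.neg_one Pres.neg_one (end_commute_neg (Commute.one_left _)) hm1 (neg_ne_self h2 hWne) fun g hg => ?_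
    have e : g = gt * gn := Subtype.ext (LinearEquiv.ext fun v => by
      show g.1 v = gt.1 (gn.1 v)
      rw [hg, hgn, hgt, ← Module.End.mul_apply, LinearMap.prodMap_mul, end_mul_neg, ← pow_two, h1, one_mul])
    rw [e, Spinor.spin_mul hQU (Spinor.reflGroup_eq_top hQU hexc),
      (Int.units_eq_one_or _).resolve_left hst, (Int.units_eq_one_or _).resolve_left hsn]
    rfl
  · refine main (-1) Pres.neg_one (end_commute_neg (Commute.one_left _)) end_neg_one_sq (neg_ne_self h2 hWne) fun g hg => ?_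
    obtain ⟨gt, hgt⟩ := exists_oGroup h2 hBU (S := tW.prodMap 1) (hpt.prod Pres.one)
    rw [show g = gt * gt from Subtype.ext (LinearEquiv.ext fun v => by
      show g.1 v = gt.1 (gt.1 v)
      rw [hg, hgt, hgt, ← Module.End.mul_apply, LinearMap.prodMap_mul, ← pow_two, h1, one_mul])]
    exact sq_mem_commutator h2 hQU _

end Cfsg.Agent.PrimeGraphBC
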